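import Groth.Agent.CycLib.FlatLength
import Mathlib.RingTheory.LocalRing.Length
import Mathlib.RingTheory.Spectrum.Prime.Homeomorph
import Mathlib.RingTheory.RingHom.Flat
import Mathlib.FieldTheory.PurelyInseparable.Basic
import Mathlib.RingTheory.HopkinsLevitzki
import Mathlib.FieldTheory.IntermediateField.Adjoin.Basic
import Mathlib.RingTheory.Noetherian.Defs

/-!
# `K ⊗ k'` for a purely inseparable extension `k'/k`: a local ring whose length is a power of `p`
-/

set_option autoImplicit false
set_option linter.style.haveILetI false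

universe u

open scoped TensorProduct
open IsLocalRing

namespace Groth.Agent.CycInsep.Algebra

variable (k K L : Type u) [Field k] [Field K] [Field L] [_root_.Algebra k K] [_root_.Algebra k L]
  [IsPurelyInseparable k L]

theorem nontrivial_tensor : Nontrivial (K ⊗[k] L) :=
  ((_root_.Algebra.TensorProduct.includeLeft_injective (S := K) (algebraMap k L).injective).nontrivial :
    Nontrivial (K ⊗[k] L))

theorem subsingleton_spec : Subsingleton (PrimeSpectrum (K ⊗[k] L)) :=
  (PrimeSpectrum.isHomeomorph_comap_of_isPurelyInseparable k L K).injective.subsingleton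

theorem isLocalRing : IsLocalRing (K ⊗[k] L) := by
  haveI := nontrivial_tensor k K L
  haveI := subsingleton_spec k K L
  obtain ⟨m, hm⟩ := Ideal.exists_maximal (K ⊗[k] L)
  exact IsLocalRing.of_unique_max_ideal ⟨m, hm, fun m' hm' => congrArg PrimeSpectrum.asIdeal
    (Subsingleton.elim (⟨m', hm'.isPrime⟩ : PrimeSpectrum (K ⊗[k] L)) ⟨m, hm.isPrime⟩)⟩

theorem isNilpotent_of_not_isUnit {z : K ⊗[k] L} (hz : ¬ IsUnit z) : IsNilpotent z := by
  haveI := isLocalRing k K L
  rw [nilpotent_iff_mem_prime]
  intro P hP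
  haveI := subsingleton_spec k K L
  have : P = maximalIdeal _ := congrArg PrimeSpectrum.asIdeal
    (Subsingleton.elim (⟨P, hP⟩ : PrimeSpectrum (K ⊗[k] L)) ⟨maximalIdeal _, inferInstance⟩)
  rw [this]
  exact hz

/-- Every element lives at a finite level. -/
theorem exists_finite_level (z : K ⊗[k] L) :
    ∃ E : IntermediateField k L, FiniteDimensional k E ∧
      z ∈ (_root_.Algebra.TensorProduct.map (AlgHom.id K K) E.val).range := by
  induction z using TensorProduct.induction_on with
  | zero => exact ⟨⊥, inferInstance, zero_mem _⟩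
  | tmul c y =>
    refine ⟨IntermediateField.adjoin k {y}, IntermediateField.adjoin.finiteDimensional
      (Algebra.IsIntegral.isIntegral y), c ⊗ₜ ⟨y, IntermediateField.mem_adjoin_simple_self k y⟩, rfl⟩
  | add z z' hz hz' =>
    obtain ⟨E, hE, a, rfl⟩ := hz
    obtain ⟨E', hE', b, rfl⟩ := hz'
    refine ⟨E ⊔ E', inferInstance,
      _root_.Algebra.TensorProduct.map (AlgHom.id K K) (IntermediateField.inclusion le_sup_left) a +
      _root_.Algebra.TensorProduct.map (AlgHom.id K K) (IntermediateField.inclusion le_sup_right) b, ?_⟩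
    rw [map_add]
    have key : ∀ (E₁ E₂ : IntermediateField k L) (h : E₁ ≤ E₂) (w : K ⊗[k] E₁),
        _root_.Algebra.TensorProduct.map (AlgHom.id K K) E₂.val
          (_root_.Algebra.TensorProduct.map (AlgHom.id K K) (IntermediateField.inclusion h) w) =
        _root_.Algebra.TensorProduct.map (AlgHom.id K K) E₁.val w := by
      intro E₁ E₂ h w
      induction w using TensorProduct.induction_on with
      | zero => simp
      | tmul c y => rfl
      | add w w' hw hw' => simp only [map_add, hw, hw']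
    exact congrArg₂ (· + ·) (key _ _ le_sup_left a) (key _ _ le_sup_right b)

/-- The finite level computation. -/
theorem exists_length_eq_pow_aux (F L' : Type u) [Field F] [Field L'] [_root_.Algebra k F] [_root_.Algebra k L']
    [IsPurelyInseparable k F] [IsPurelyInseparable k L'] [FiniteDimensional k F]
    (q : ℕ) [Fact q.Prime] [ExpChar k q] (v : F →ₐ[k] L') (T : Finset (K ⊗[k] L'))
    [IsLocalRing (K ⊗[k] L')]
    (hT : Ideal.span (T : Set (K ⊗[k] L')) = maximalIdeal (K ⊗[k] L'))
    (hTi : ∀ z ∈ T, z ∈ (_root_.Algebra.TensorProduct.map (AlgHom.id K K) v).range) :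
    ∃ e : ℕ, Module.length (K ⊗[k] L') (K ⊗[k] L') = (q ^ e : ℕ) := by
  haveI := isLocalRing k K F
  let i : K ⊗[k] F →ₐ[K] K ⊗[k] L' := _root_.Algebra.TensorProduct.map (AlgHom.id K K) v
  letI : _root_.Algebra (K ⊗[k] F) (K ⊗[k] L') := i.toRingHom.toAlgebra
  haveI : Module.Flat (K ⊗[k] F) (K ⊗[k] L') :=
    RingHom.Flat.tensorProductMap (f := AlgHom.id K K) (g := v) (RingHom.Flat.id K) (by
      algebraize [v.toRingHom]
      exact (inferInstance : Module.Flat F L'))
  haveI : IsLocalHom (algebraMap (K ⊗[k] F) (K ⊗[k] L')) := ⟨fun b hb => by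
    by_contra hnb
    exact ((isNilpotent_of_not_isUnit k K F hnb).map i.toRingHom).not_isUnit hb⟩
  -- the closed fibre is a field
  have hmax : (maximalIdeal (K ⊗[k] F)).map (algebraMap (K ⊗[k] F) (K ⊗[k] L')) =
      maximalIdeal (K ⊗[k] L') := by
    refine le_antisymm (((IsLocalRing.local_hom_TFAE _).out 0 2).mp ‹_›) ?_
    rw [← hT, Ideal.span_le]
    intro z hz
    obtain ⟨b, rfl⟩ := hTi z hz
    refine Ideal.mem_map_of_mem _ fun hu => ?_
    have hmem : i b ∈ maximalIdeal (K ⊗[k] L') := hT ▸ Ideal.subset_span hz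
    exact hmem (hu.map i.toRingHom)
  have hone : Module.length (K ⊗[k] L') (K ⊗[k] L' ⧸ (maximalIdeal (K ⊗[k] F)).map
      (algebraMap (K ⊗[k] F) (K ⊗[k] L'))) = 1 := by
    rw [hmax]
    exact Module.length_eq_one_iff.mpr (isSimpleModule_iff_isCoatom.mpr (maximalIdeal.isMaximal _).out)
  have hlen : Module.length (K ⊗[k] L') (K ⊗[k] L') = Module.length (K ⊗[k] F) (K ⊗[k] F) := by
    have h := Groth.Agent.CycLib.length_tensor (A := K ⊗[k] F) (B := K ⊗[k] L') (K ⊗[k] F)
    rw [hone, mul_one, (_root_.Algebra.TensorProduct.rid (K ⊗[k] F) (K ⊗[k] L') (K ⊗[k] L')).toLinearEquiv.length_eq] at h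
    exact h
  -- the finite level
  haveI : IsLocalHom (algebraMap K (K ⊗[k] F)) := ⟨fun c hc =>
    isUnit_iff_ne_zero.mpr fun h0 => by
      rw [h0, map_zero] at hc
      exact not_isUnit_zero hc⟩
  have h1 := IsLocalRing.length_restrictScalars K (K ⊗[k] F) (K ⊗[k] F)
  obtain ⟨a, ha⟩ := IsPurelyInseparable.finrank_eq_pow k F q
  have h2 : Module.length K (K ⊗[k] F) = (q ^ a : ℕ) := by
    rw [Module.length_eq_finrank, Module.finrank_baseChange, ha]
  haveI : IsArtinianRing (K ⊗[k] F) := isArtinian_of_tower K inferInstance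
  obtain ⟨l, hl⟩ : ∃ l : ℕ, (l : ℕ∞) = Module.length (K ⊗[k] F) (K ⊗[k] F) :=
    ENat.ne_top_iff_exists.mp Module.length_ne_top
  rw [h2, ← hl] at h1
  obtain ⟨d, hd⟩ : ∃ d : ℕ, (d : ℕ∞) = Module.length (ResidueField K) (ResidueField (K ⊗[k] F)) := by
    refine ENat.ne_top_iff_exists.mp fun htop => ?_
    rw [htop, ENat.mul_top] at h1
    · exact ENat.coe_ne_top _ h1
    · intro h0
      rw [h0] at hl
      exact not_subsingleton (K ⊗[k] F) (Module.length_eq_zero_iff.mp hl.symm)
  rw [← hd] at h1
  obtain ⟨e, -, he⟩ := (Nat.dvd_prime_pow (Fact.out : q.Prime)).mp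
    (Dvd.intro d (show l * d = q ^ a by exact_mod_cast h1.symm))
  exact ⟨e, by rw [hlen, ← hl, he]⟩

/-- The length of `K ⊗ L` is a power of the characteristic exponent, when this ring is Noetherian. -/
theorem exists_length_eq_pow (q : ℕ) [Fact q.Prime] [CharP k q] [IsNoetherianRing (K ⊗[k] L)] :
    ∃ e : ℕ, Module.length (K ⊗[k] L) (K ⊗[k] L) = (q ^ e : ℕ) := by
  classical
  haveI : ExpChar k q := ExpChar.prime (Fact.out)
  haveI := isLocalRing k K L
  obtain ⟨T, hT⟩ := (maximalIdeal (K ⊗[k] L)).fg_of_isNoetherianRing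
  choose E hE hzE using fun z : T => exists_finite_level k K L z.1
  let F : IntermediateField k L := ⨆ z : T, E z
  haveI : FiniteDimensional k F := IntermediateField.finiteDimensional_iSup_of_finite
  haveI : IsPurelyInseparable k F := IsPurelyInseparable.tower_bot k F L
  haveI hBloc := isLocalRing k K F
  let i : K ⊗[k] F →ₐ[K] K ⊗[k] L := _root_.Algebra.TensorProduct.map (AlgHom.id K K) F.val
  have hTi : ∀ z ∈ T, z ∈ i.range := by
    intro z hz
    obtain ⟨a, ha⟩ := hzE ⟨z, hz⟩
    refine ⟨_root_.Algebra.TensorProduct.map (AlgHom.id K K)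
      (IntermediateField.inclusion (le_iSup E ⟨z, hz⟩)) a, ?_⟩
    refine Eq.trans ?_ ha
    clear ha
    induction a using TensorProduct.induction_on with
    | zero => simp
    | tmul c y => rfl
    | add w w' hw hw' =>
      simp only [map_add] at hw hw' ⊢
      exact congrArg₂ (· + ·) hw hw'
  exact exists_length_eq_pow_aux k K F L q F.val T hT hTi

end Groth.Agent.CycInsep.Algebra
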