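import Groth.Agent.CycInsep.Algebra
import Groth.Agent.CycLib.ProdFibre
import Groth.Agent.Weil.Dim
import Mathlib.AlgebraicGeometry.Morphisms.Integral
import Mathlib.AlgebraicGeometry.Morphisms.Flat

/-!
# Base change of a scheme along a purely inseparable field extension
-/

set_option autoImplicit false
set_option linter.style.haveILetI false
set_option backward.isDefEq.respectTransparency.types false
set_option maxHeartbeats 800000

universe u

open CategoryTheory Limits AlgebraicGeometry IsLocalRing
open scoped TensorProduct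

namespace Groth.Agent.CycInsep.Fibre

variable {k k' : Type u} [Field k] [Field k'] [_root_.Algebra k k'] {X : Scheme.{u}}
  (f : X ⟶ Spec (CommRingCat.of k))

/-- `Spec k' ⟶ Spec k`. -/
noncomputable abbrev gmap : Spec (CommRingCat.of k') ⟶ Spec (CommRingCat.of k) :=
  Spec.map (CommRingCat.ofHom (algebraMap k k'))

/-- The fibre over a field valued point of the base change is `Spec (K ⊗ k')`. -/
theorem exists_fibre (K : Type u) [Field K] [_root_.Algebra k K] (s : Spec (CommRingCat.of K) ⟶ X)
    (hs : s ≫ f = Spec.map (CommRingCat.ofHom (algebraMap k K))) :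
    ∃ (a : Spec (CommRingCat.of (K ⊗[k] k')) ⟶ pullback f (gmap (k' := k')))
      (b : Spec (CommRingCat.of (K ⊗[k] k')) ⟶ Spec (CommRingCat.of K)),
      IsPullback a b (pullback.fst f (gmap (k' := k'))) s := by
  have hbig := isPullback_SpecMap_of_isPushout _ _ _ _ (CommRingCat.isPushout_tensorProduct k K k')
  rw [← hs] at hbig
  refine ⟨pullback.lift (Spec.map (CommRingCat.ofHom _root_.Algebra.TensorProduct.includeLeftRingHom) ≫ s) _
    (by rw [Category.assoc]; exact hbig.w), Spec.map (CommRingCat.ofHom _root_.Algebra.TensorProduct.includeLeftRingHom), ?_⟩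
  refine IsPullback.of_right (h₁₂ := pullback.snd f (gmap (k' := k'))) (v₁₃ := gmap (k' := k'))
    (h₂₂ := f) ?_ (pullback.lift_fst _ _ _) (IsPullback.of_hasPullback f (gmap (k' := k'))).flip
  rw [pullback.lift_snd]
  exact hbig.flip

variable [IsPurelyInseparable k k']

omit [IsPurelyInseparable k k'] in
theorem surjective_gmap : Surjective (gmap (k := k) (k' := k')) :=
  ⟨fun p => ⟨Classical.ofNonempty, Subsingleton.elim _ _⟩⟩

/-- The fibre contains all points over the point. -/
theorem exists_fibre_point (K : Type u) [Field K] [_root_.Algebra k K] (s : Spec (CommRingCat.of K) ⟶ X)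
    (hs : s ≫ f = Spec.map (CommRingCat.ofHom (algebraMap k K))) :
    ∃ (a : Spec (CommRingCat.of (K ⊗[k] k')) ⟶ pullback f (gmap (k' := k')))
      (b : Spec (CommRingCat.of (K ⊗[k] k')) ⟶ Spec (CommRingCat.of K)),
      IsPullback a b (pullback.fst f (gmap (k' := k'))) s ∧
      Subsingleton (Spec (CommRingCat.of (K ⊗[k] k'))) ∧
      ∀ r, pullback.fst f (gmap (k' := k')) r ∈ Set.range s → r ∈ Set.range a := by
  obtain ⟨a, b, h⟩ := exists_fibre (k' := k') f K s hs
  refine ⟨a, b, h, Algebra.subsingleton_spec k K k', fun r hr => ?_⟩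
  rw [← h.isoPullback_hom_fst, Scheme.Hom.comp_base, TopCat.coe_comp, Set.range_comp,
    Set.range_eq_univ.mpr h.isoPullback.hom.surjective, Set.image_univ, Scheme.Pullback.range_fst]
  exact hr

/-- The projection is a homeomorphism. -/
theorem isHomeomorph_fst : IsHomeomorph (pullback.fst f (gmap (k' := k'))) := by
  haveI : IsIntegralHom (gmap (k := k) (k' := k')) :=
    IsIntegralHom.SpecMap_iff.mpr (algebraMap_isIntegral_iff.mpr inferInstance)
  haveI := surjective_gmap (k := k) (k' := k')
  haveI : Surjective (pullback.fst f (gmap (k' := k'))) := inferInstance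
  haveI : IsIntegralHom (pullback.fst f (gmap (k' := k'))) := inferInstance
  refine (isHomeomorph_iff_continuous_isClosedMap_bijective).mpr
    ⟨(pullback.fst f (gmap (k' := k'))).continuous, Scheme.Hom.isClosedMap _, ?_, Surjective.surj⟩
  intro p q hpq
  set x := pullback.fst f (gmap (k' := k')) p
  obtain ⟨φ, hφ⟩ := Spec.map_surjective (X.fromSpecResidueField x ≫ f)
  letI : _root_.Algebra k (X.residueField x : Type u) := φ.hom.toAlgebra
  obtain ⟨a, b, -, hsub, hr⟩ := exists_fibre_point (k' := k') f (X.residueField x : Type u)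
    (X.fromSpecResidueField x) hφ.symm
  obtain ⟨p', hp'⟩ := hr p ⟨default, Scheme.fromSpecResidueField_apply _ _⟩
  obtain ⟨q', hq'⟩ := hr q ⟨default, (Scheme.fromSpecResidueField_apply _ _).trans hpq⟩
  rw [← hp', ← hq', Subsingleton.elim p' q']

/-- The multiplicity computation over a field valued point. -/
theorem exists_fibLen_eq_pow_aux (K : Type u) [Field K] [_root_.Algebra k K]
    (s : Spec (CommRingCat.of K) ⟶ X) [IsPreimmersion s]
    (hs : s ≫ f = Spec.map (CommRingCat.ofHom (algebraMap k K))) (q : ℕ) [Fact q.Prime] [CharP k q]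
    [IsLocallyNoetherian (pullback f (gmap (k' := k')))] (p : ↥(pullback f (gmap (k' := k'))))
    (hp : pullback.fst f (gmap (k' := k')) p ∈ Set.range s) :
    ∃ e : ℕ, Groth.Agent.CycLib.fibLen (pullback.fst f (gmap (k' := k'))) p = q ^ e := by
  obtain ⟨a, b, h, hsub, hr⟩ := exists_fibre_point (k' := k') f K s hs
  haveI : IsPreimmersion a :=
    MorphismProperty.of_isPullback (P := @IsPreimmersion) h.flip inferInstance
  haveI := Algebra.isLocalRing k K k'
  obtain ⟨w, rfl⟩ := hr p hp
  set F := pullback.fst f (gmap (k' := k'))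
  have hbw : s (b w) = F (a w) := (congr($(h.w) w)).symm
  have hsp : s (b w) ⤳ F (a w) := specializes_of_eq hbw
  have hker : RingHom.ker (a.stalkMap w).hom =
      (maximalIdeal (X.presheaf.stalk (F (a w)))).map (F.stalkMap (a w)).hom := by
    rw [Groth.Agent.CycLib.ker_stalkMap_isPullback_pre h w hsp]
    refine congrArg (Ideal.map _) ?_
    have hf : IsField ((Spec (CommRingCat.of K)).presheaf.stalk (b w)) :=
      MulEquiv.isField (Field.toIsField K)
        ((Spec.stalkIso (CommRingCat.of K) (b w)).commRingCatIsoToRingEquiv.trans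
          (IsLocalization.atUnits K (b w).asIdeal.primeCompl (S := Localization.AtPrime (b w).asIdeal) fun c hc =>
            isUnit_iff_ne_zero.mpr fun h0 => hc (h0 ▸ zero_mem _)).toRingEquiv.symm).toMulEquiv
    have hk : RingHom.ker (s.stalkMap (b w)).hom = maximalIdeal _ := by
      letI := hf.toField
      exact eq_maximalIdeal (RingHom.ker_isMaximal_of_surjective _ (s.stalkMap_surjective (b w)))
    rw [hk]
    exact Groth.Agent.CycLib.comap_maximalIdeal_of_eq hbw hsp
  have hsurj := a.stalkMap_surjective w
  let es : (K ⊗[k] k') ≃+* (Spec (CommRingCat.of (K ⊗[k] k'))).presheaf.stalk w :=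
    (IsLocalization.atUnits (K ⊗[k] k') w.asIdeal.primeCompl (S := Localization.AtPrime w.asIdeal) fun c hc => by
      by_contra hu
      obtain ⟨n, hn⟩ := Algebra.isNilpotent_of_not_isUnit k K k' hu
      exact hc (w.2.mem_of_pow_mem n (hn ▸ zero_mem _))).toRingEquiv.trans
        (Spec.stalkIso (CommRingCat.of (K ⊗[k] k')) w).commRingCatIsoToRingEquiv.symm
  haveI : IsNoetherianRing ((pullback f (gmap (k' := k'))).presheaf.stalk (a w)) := inferInstance
  let σ : (pullback f (gmap (k' := k'))).presheaf.stalk (a w) →+* K ⊗[k] k' :=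
    es.symm.toRingHom.comp (a.stalkMap w).hom
  have hσ : Function.Surjective σ := es.symm.surjective.comp hsurj
  haveI : IsNoetherianRing (K ⊗[k] k') := isNoetherianRing_of_surjective _ _ σ hσ
  obtain ⟨e, he⟩ := Algebra.exists_length_eq_pow k K k' q
  refine ⟨e, ?_⟩
  have hkσ : RingHom.ker σ = RingHom.ker (a.stalkMap w).hom := by
    ext z
    simp [σ]
  rw [Groth.Agent.CycLib.fibLen, ← hker, ← hkσ]
  letI : _root_.Algebra ((pullback f (gmap (k' := k'))).presheaf.stalk (a w)) (K ⊗[k] k') := σ.toAlgebra
  rw [show Module.length ((pullback f (gmap (k' := k'))).presheaf.stalk (a w))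
      ((pullback f (gmap (k' := k'))).presheaf.stalk (a w) ⧸ RingHom.ker σ) =
      Module.length ((pullback f (gmap (k' := k'))).presheaf.stalk (a w)) (K ⊗[k] k') from
      (LinearMap.quotKerEquivOfSurjective (_root_.Algebra.linearMap
        ((pullback f (gmap (k' := k'))).presheaf.stalk (a w)) (K ⊗[k] k')) hσ).length_eq,
    Module.length_eq_of_surjective (R := K ⊗[k] k') hσ, he, ENat.toNat_coe]

/-- The multiplicity of the unique point over a point is a power of the characteristic. -/
theorem exists_fibLen_eq_pow (q : ℕ) [Fact q.Prime] [CharP k q]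
    [IsLocallyNoetherian (pullback f (gmap (k' := k')))] (p : ↥(pullback f (gmap (k' := k')))) :
    ∃ e : ℕ, Groth.Agent.CycLib.fibLen (pullback.fst f (gmap (k' := k'))) p = q ^ e := by
  set x := pullback.fst f (gmap (k' := k')) p with hx
  obtain ⟨φ, hφ⟩ := Spec.map_surjective (X.fromSpecResidueField x ≫ f)
  letI : _root_.Algebra k (X.residueField x : Type u) := φ.hom.toAlgebra
  exact exists_fibLen_eq_pow_aux f (X.residueField x : Type u) (X.fromSpecResidueField x) hφ.symm q p
    ⟨default, (Scheme.fromSpecResidueField_apply _ _).trans hx⟩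

/-- The dimension functions agree. -/
theorem delta_eq [LocallyOfFiniteType f] {δ : X → ℤ} (hδ : Cyc.DeltaCompat f δ (fun _ => 0))
    {δ' : ↥(pullback f (gmap (k' := k'))) → ℤ}
    (hδ' : Cyc.DeltaCompat (pullback.snd f (gmap (k' := k'))) δ' (fun _ => 0))
    (p : ↥(pullback f (gmap (k' := k')))) : δ' p = δ (pullback.fst f (gmap (k' := k')) p) := by
  set F := pullback.fst f (gmap (k' := k'))
  set S := pullback.snd f (gmap (k' := k'))
  obtain ⟨n, hn, hd⟩ := hδ (F p)
  obtain ⟨n', hn', hd'⟩ := hδ' p
  rw [Weil.trdeg_residueFieldMap_base] at hn hn'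
  obtain ⟨m, hm, hdim⟩ := Weil.exists_dim_closure f (F p)
  obtain ⟨m', hm', hdim'⟩ := Weil.exists_dim_closure S p
  obtain rfl : n = m := by exact_mod_cast hn.symm.trans hm
  obtain rfl : n' = m' := by exact_mod_cast hn'.symm.trans hm'
  let hh := (isHomeomorph_fst (k' := k') f).homeomorph
  have h1 : topologicalKrullDim ↥(closure ({p} : Set ↥(pullback f (gmap (k' := k'))))) =
      topologicalKrullDim ↥(closure ({F p} : Set X)) := by
    have himg : hh '' closure {p} = closure {F p} := by
      rw [hh.image_closure, Set.image_singleton]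
      rfl
    exact ((hh.image _).trans (Homeomorph.setCongr himg)).isHomeomorph.topologicalKrullDim_eq
  rw [hdim, hdim'] at h1
  have : n' = n := by exact_mod_cast h1
  rw [hd, hd', this]

end Groth.Agent.CycInsep.Fibre
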